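import Groth.Agent.DualPic.PicTangent
import Groth.Agent.AbvarAmple.KLKernel
import Groth.Agent.AbvarAmple.KerFinite
import Groth.Agent.FibreDim.BaseChange
import Groth.Agent.Variety2.DimFiber
import Mathlib.AlgebraicGeometry.Group.Smooth

/-!
The Picard scheme of an abelian variety has at least its dimension.
-/

universe u

open CategoryTheory Limits MonoidalCategory CartesianMonoidalCategory MonObj GrpObj AlgebraicGeometry
open TopologicalSpace
open Groth.Abvar Groth.Abvar.PicCalc Groth.AbvarAmple

namespace Groth.DualPic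

/-- The dimension of a scheme locally of finite type over a field does not change with the field. -/
theorem dim_baseChange_field {k : Type u} [Field k] {Y : Scheme.{u}} (h : Y ⟶ Spec (CommRingCat.of k))
    [LocallyOfFiniteType h] (K : Type u) [Field K] [Algebra k K] :
    topologicalKrullDim ↥(Limits.pullback h (Spec.map (CommRingCat.ofHom (algebraMap k K)))) =
      topologicalKrullDim ↥Y := by
  have key : ∀ {k' : Type u} [Field k'] {Z : Scheme.{u}} (q : Z ⟶ Spec (CommRingCat.of k'))
      (y : Spec (CommRingCat.of k')), topologicalKrullDim ↥(q.fiber y) = topologicalKrullDim ↥Z := by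
    intro k' _ Z q y
    have : Subsingleton ↥(Spec (CommRingCat.of k')) := inferInstanceAs (Subsingleton (PrimeSpectrum k'))
    have he : q ⁻¹' {y} = Set.univ := Set.eq_univ_of_forall fun _ => Subsingleton.elim _ _
    exact ((q.fiberHomeo y).trans ((Homeomorph.setCongr he).trans
      (Homeomorph.Set.univ _))).isHomeomorph.topologicalKrullDim_eq
  have h' := Groth.FibreDim.dim_fiber_baseChange h
    (Spec.map (CommRingCat.ofHom (algebraMap k K))) (Limits.pullback.snd _ _) (Limits.pullback.fst _ _)
    (IsPullback.of_hasPullback h (Spec.map (CommRingCat.ofHom (algebraMap k K))))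
    (IsLocalRing.closedPoint K)
  rwa [key, key] at h'

variable {K : Type u} [Field K]

/-- If the Mumford class at a point is trivial then translation by the point fixes the class. -/
theorem fixed_of_mum_eq_one [IsAlgClosed K] {X : Over (Spec (CommRingCat.of K))} [GrpObj X]
    [IsProper X.hom] [GeometricallyIntegral X.hom] (c : PicLoc.PicSet X.left)
    (a : 𝟙_ (Over (Spec (CommRingCat.of K))) ⟶ X) (h : mum c a = 1) :
    opull (𝟙 X * (toUnit X ≫ a)) c = c := by
  have h' : opull (fst X (𝟙_ _) * (snd X (𝟙_ _) ≫ a)) c =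
      opull (fst X (𝟙_ _)) c * opull (snd X (𝟙_ _) ≫ a) c := div_eq_one.1 h
  have h'' := congrArg (opull (lift (𝟙 X) (toUnit X))) h'
  rw [← opull_comp, map_mul, ← opull_comp, ← opull_comp, MonObj.comp_mul, lift_fst,
    ← Category.assoc, lift_snd, opull_id, opull_toUnit_comp, _root_.mul_one] at h''
  exact h''

theorem le_dim_pic [IsAlgClosed K] (X : Over (Spec (CommRingCat.of K))) [GrpObj X]
    [IsProper X.hom] [GeometricallyIntegral X.hom] {L : X.left.Modules} (hL : CohB1.IsAmple L)
    (P : Over (Spec (CommRingCat.of K))) [LocallyOfFiniteType P.hom]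
    (φ : ∀ T : Over (Spec (CommRingCat.of K)), PicF.Cl (PicF.XT X.hom T) → (T ⟶ P))
    (hP : PicRel.IsRelPic X.hom P φ) :
    topologicalKrullDim X.left ≤ topologicalKrullDim P.left := by
  let c := cls hL.1
  let ψ : X ⟶ P := φ X (mum c (𝟙 X)).1
  have hψ : ∀ a : 𝟙_ (Over (Spec (CommRingCat.of K))) ⟶ X, φ _ (mum c a).1 = a ≫ ψ := fun a => by
    conv_lhs => rw [← Category.comp_id a, ← pull_XTmap_mum c a (𝟙 X)]
    exact hP.natural _ _ a _ (mum c (𝟙 X)).2
  have hfix : ∀ a : 𝟙_ (Over (Spec (CommRingCat.of K))) ⟶ X, a ≫ ψ = η[X] ≫ ψ →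
      opull (𝟙 X * (toUnit X ≫ a)) c = c := by
    intro a ha
    rw [← hψ, ← hψ] at ha
    have hsec : Sects (𝟙_ (Over (Spec (CommRingCat.of K)))) := fun _ U hU => exists_section_field K U hU
    have h1 : mum c a = mum c η[X] := class_injective hP hsec ha
    have h2 : mum c η[X] = 1 := by
      refine div_eq_one.2 ?_
      have e : snd X (𝟙_ (Over (Spec (CommRingCat.of K)))) ≫ η[X] = 1 := by
        rw [Hom.one_def]
        exact congrArg (· ≫ η[X]) (toUnit_unique _ _)
      rw [e, _root_.mul_one, opull_one, _root_.mul_one]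
    exact fixed_of_mum_eq_one c a (h1.trans h2)
  -- the fibre through the origin is finite
  let o : X.left := η[X].left (IsLocalRing.closedPoint K)
  have : IsSeparated X.hom := inferInstance
  have : JacobsonSpace X.left := LocallyOfFiniteType.jacobsonSpace X.hom
  have : JacobsonSpace P.left := LocallyOfFiniteType.jacobsonSpace P.hom
  have hψw : ψ.left ≫ P.hom = X.hom := Over.w ψ
  have : LocallyOfFiniteType (ψ.left ≫ P.hom) := hψw ▸ inferInstance
  have : LocallyOfFiniteType ψ.left := locallyOfFiniteType_of_comp _ P.hom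
  have hoc : IsClosed ({o} : Set X.left) := by
    have h := η[X].left.isClosedEmbedding.isClosedMap _
      (isClosed_discrete ({IsLocalRing.closedPoint K} : Set ↥(Spec (CommRingCat.of K))))
    convert h using 1
    exact Set.image_singleton.symm
  have hpo : IsClosed ({ψ.left o} : Set P.left) := by
    have := ψ.left.closePoints_subset_preimage_closedPoints (show o ∈ closedPoints X.left from hoc)
    exact this
  have hfin : (closedPoints X.left ∩ ψ.left ⁻¹' {ψ.left o}).Finite := by
    refine ((finite_fixed (k := K) hL).image fun a => a.left (IsLocalRing.closedPoint K)).subset ?_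
    rintro z ⟨hz, hzo⟩
    let a : 𝟙_ (Over (Spec (CommRingCat.of K))) ⟶ X :=
      Over.homMk _ ((pointEquivClosedPoint X.hom).symm ⟨z, hz⟩).2
    have haz : a.left (IsLocalRing.closedPoint K) = z :=
      congrArg Subtype.val ((pointEquivClosedPoint X.hom).apply_symm_apply ⟨z, hz⟩)
    refine ⟨a, hfix a ?_, haz⟩
    have he : (pointEquivClosedPoint P.hom) ⟨(a ≫ ψ).left, Over.w (a ≫ ψ)⟩ =
        (pointEquivClosedPoint P.hom) ⟨(η[X] ≫ ψ).left, Over.w (η[X] ≫ ψ)⟩ := Subtype.ext (by
      show ψ.left (a.left (IsLocalRing.closedPoint K)) = ψ.left o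
      rw [haz]
      exact hzo)
    exact Over.OverMorphism.ext (congrArg Subtype.val ((pointEquivClosedPoint P.hom).injective he))
  have hall : ∀ z, ψ.left z = ψ.left o → IsClosed ({z} : Set X.left) := by
    intro z hz
    have hF : IsClosed (ψ.left ⁻¹' {ψ.left o}) := hpo.preimage ψ.left.continuous
    have h1 : closure (ψ.left ⁻¹' {ψ.left o} ∩ closedPoints X.left) = ψ.left ⁻¹' {ψ.left o} := by
      exact closure_inter_closedPoints hF
    have h2 : IsClosed (ψ.left ⁻¹' {ψ.left o} ∩ closedPoints X.left) := by
      rw [← Set.biUnion_of_singleton (_ ∩ _)]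
      exact Set.Finite.isClosed_biUnion (Set.inter_comm _ _ ▸ hfin) fun w hw => hw.2
    have h3 : z ∈ ψ.left ⁻¹' {ψ.left o} ∩ closedPoints X.left := by
      rw [← h2.closure_eq, h1]
      exact hz
    exact h3.2
  have : IrreducibleSpace X.left := GeometricallyIrreducible.irreducibleSpace_of_subsingleton X.hom
  obtain ⟨z, -, -, hz, hle⟩ := Groth.Variety2.Dim.exists_fiber_height_le X.hom P.hom ψ.left hψw
    (ξ := genericPoint X.left) (x := o) (genericPoint_specializes o)
  rw [(Groth.Variety2.Dim.height_eq_zero_iff _).2 hpo, (Groth.Variety2.Dim.height_eq_zero_iff _).2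
    (hall z hz), add_zero, zero_add] at hle
  rw [Groth.Variety2.Dim.dim_eq_height_genericPoint, Groth.Variety2.Dim.dim_eq_iSup_height]
  exact le_trans (WithBot.coe_le_coe.2 hle)
    (le_iSup (fun w : P.left => ((Order.height w : ℕ∞) : WithBot ℕ∞)) _)

end Groth.DualPic
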