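import Groth.Agent.PicAux.RigPoints
import Groth.Prelude.Def_PicRel2

/-!
An fppf relative Picard scheme of a family with a section represents the étale sheafification too.
-/

universe u

open CategoryTheory Limits AlgebraicGeometry TopologicalSpace
open scoped Groth.Abvar.PicCalc
open Groth.Flatmor4.OverRep (piece pieceHom)

namespace Groth.DualPic

open Groth.Abvar.PicCalc (pull pull_cls pull_comp pull_id cls)
open Groth.PicCurve (RS norm norm_map norm_self XTmap_comp' XTmap_snd)
open Groth.PicAux.RigPoints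

set_option backward.isDefEq.respectTransparency.types false in
theorem isRelPic_of_fppf {X S : Scheme.{u}} {f : X ⟶ S} (σ : S ⟶ X) (hσ : σ ≫ f = 𝟙 S)
    (hc : Groth.PicCurve.ConstFun f) {P : Over S}
    {φ : ∀ T : Over S, PicF.Cl (PicF.XT f T) → (T ⟶ P)}
    (hP : AbDual.IsRelPicK Scheme.fppfPrecoverage f P φ) : PicRel.IsRelPic f P φ where
  natural := hP.natural
  locallySurjective T g := by
    let U₀ : T.left.Etale := MorphismProperty.Over.mk ⊤ (𝟙 T.left) inferInstance
    refine ⟨PUnit, fun _ => U₀, fun t => ⟨PUnit.unit, t, rfl⟩, fun _ => ?_⟩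
    obtain ⟨c, hc'⟩ := phi_surjective (σ := σ) (hσ := hσ) hP hc (PicRel.ovr T U₀) (PicRel.ovrHom T U₀ ≫ g)
    exact ⟨c.1.1, c.1.2, hc'⟩
  locallyInjective T a b ha hb h := by
    let c : PicLoc.PicSet (PicF.XT f T) := ⟨a, ha⟩
    let d : PicLoc.PicSet (PicF.XT f T) := ⟨b, hb⟩
    have hn : norm f σ hσ T c = norm f σ hσ T d := phi_injective hP hc T (by
      show phi φ T (norm f σ hσ T c).1 = phi φ T (norm f σ hσ T d).1
      rw [phi_norm hP, phi_norm hP]
      exact h)
    obtain ⟨M, hM, hMe⟩ := PicGrp.exists_eq_cls (pull (PicF.secT f σ hσ T) c / pull (PicF.secT f σ hσ T) d)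
    have hM' := hM
    choose V hyV hV using hM'
    let U : T.left → T.left.Etale := fun t => MorphismProperty.Over.mk ⊤ (V t).ι inferInstance
    refine ⟨T.left, U, fun t => ⟨t, ⟨t, hyV t⟩, rfl⟩, fun i => ?_⟩
    have h1 : pull (V i).ι (pull (PicF.secT f σ hσ T) c / pull (PicF.secT f σ hσ T) d) = 1 := by
      obtain ⟨e⟩ := hV i
      rw [hMe, pull_cls, ← Abvar.PicCalc.nonempty_iso_structure_iff]
      exact ⟨(Scheme.Modules.restrictFunctorIsoPullback (V i).ι).symm.app M ≪≫ e⟩
    have h2 : c / d = pull (PicF.XTproj f T) (pull (PicF.secT f σ hσ T) c / pull (PicF.secT f σ hσ T) d) := by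
      have h0 : c * _ = d * _ := congrArg Subtype.val hn
      rw [← div_eq_mul_inv, ← div_eq_mul_inv] at h0
      rw [map_div, ← div_eq_one, ← div_div_div_comm, h0, div_self']
    have h3 : pull (PicF.XTmap f (PicRel.ovrHom T (U i))) c = pull (PicF.XTmap f (PicRel.ovrHom T (U i))) d := by
      rw [← div_eq_one, ← map_div, h2, ← pull_comp, XTmap_snd, pull_comp]
      exact (congrArg (pull _) h1).trans (map_one _)
    exact congrArg Subtype.val h3

end Groth.DualPic
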