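import Groth.Agent.DualPic.AbvarPic
import Groth.Agent.DualPic.FppfEtale
import Groth.Agent.PicCurve.SmoothPic
import Groth.Agent.S11757
import Groth.Agent.S8121
import Groth.Agent.GrpschAbsch.UnitalMul

/-!
The Picard scheme of an abelian variety is smooth, given its first cohomology.
-/

universe u

open CategoryTheory Limits MonoidalCategory CartesianMonoidalCategory MonObj GrpObj AlgebraicGeometry
open TopologicalSpace
open scoped Groth.Abvar.PicCalc

namespace Groth.DualPic

theorem smooth_pic_abvar (k : Type u) [Field k] (X : Over (Spec (CommRingCat.of k))) [GrpObj X]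
    [IsProper X.hom] [GeometricallyIntegral X.hom] (g : ℕ) (hg : topologicalKrullDim ↥X.left = g)
    (hh1 : letI : X.left.Over (Spec (CommRingCat.of k)) := ⟨X.hom⟩
      Module.finrank k (Coh.HH X.left (Coh.structureModule X.left) 1) = g)
    (P : Over (Spec (CommRingCat.of k)))
    (φ : ∀ T : Over (Spec (CommRingCat.of k)), PicF.Cl (PicF.XT X.hom T) → (T ⟶ P))
    (hP : AbDual.IsRelPicK Scheme.fppfPrecoverage X.hom P φ) [LocallyOfFiniteType P.hom] :
    Smooth P.hom ∧ topologicalKrullDim ↥P.left = g := by
  letI : X.left.Over (Spec (CommRingCat.of k)) := ⟨X.hom⟩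
  let f := X.left ↘ Spec (CommRingCat.of k)
  have : IsProper f := ‹IsProper X.hom›
  have : Flat X.hom := Misc3Fib.flat_of_field X.hom
  have : GeometricallyConnected X.hom :=
    Groth.GrpschAbsch.UnitalMul.geometricallyConnected_of_geometricallyIrreducible X.hom
  have hE : PicRel.IsRelPic f P φ :=
    isRelPic_of_fppf η[X].left (Over.w η[X]) (Groth.PicCurve.constFun_of_flat X.hom) hP
  obtain ⟨hdims, -, -⟩ := Groth.Agent.S11757.dims k X.left P φ hE
  have hle := dim_le k X.left P φ hE
  rw [hh1] at hle
  have hsm := Groth.Agent.S11757.result k X.left P φ hE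
  rw [hh1] at hsm
  set e : P.left := (φ (Over.mk (𝟙 (Spec (CommRingCat.of k)))) (PicF.cl (Coh.structureModule
    (PicF.XT f (Over.mk (𝟙 (Spec (CommRingCat.of k)))))))).left.base (IsLocalRing.closedPoint k)
  -- the dimension is read at the origin
  let := Groth.PicGroup.grpObj hE
  have : JacobsonSpace P.left := LocallyOfFiniteType.jacobsonSpace P.hom
  obtain ⟨p, -, hp⟩ := nonempty_inter_closedPoints (Z := (Set.univ : Set P.left)) ⟨e, trivial⟩
    isClosed_univ.isLocallyClosed
  have hdim : topologicalKrullDim P.left = ringKrullDim (P.left.presheaf.stalk e) :=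
    (Groth.GrpschAbsch.ringKrullDim_stalk_closedPoint P hp).symm.trans (hdims p hp)
  -- the lower bound over an algebraic closure
  let K := AlgebraicClosure k
  let gK : Spec (CommRingCat.of K) ⟶ Spec (CommRingCat.of k) :=
    Spec.map (CommRingCat.ofHom (algebraMap k K))
  let F := Over.pullback gK
  let : GrpObj (F.obj X) := Functor.grpObjObj
  have : IsProper (F.obj X).hom := inferInstanceAs (IsProper (pullback.snd X.hom gK))
  have : GeometricallyIntegral (F.obj X).hom :=
    inferInstanceAs (GeometricallyIntegral (pullback.snd X.hom gK))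
  obtain ⟨L, hL, -⟩ := Groth.Agent.S8121.result K (F.obj X)
  let PK : Over (Spec (CommRingCat.of K)) := Over.mk (pullback.snd P.hom gK)
  have : LocallyOfFiniteType PK.hom := inferInstanceAs (LocallyOfFiniteType (pullback.snd P.hom gK))
  have hge : topologicalKrullDim (F.obj X).left ≤ topologicalKrullDim PK.left :=
    le_dim_pic (F.obj X) hL PK _ (Groth.Agent.S17906.result X.hom gK P φ hE)
  rw [show topologicalKrullDim (F.obj X).left = _ from dim_baseChange_field X.hom K,
    show topologicalKrullDim PK.left = _ from dim_baseChange_field P.hom K, hg, hdim] at hge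
  have heq : ringKrullDim (P.left.presheaf.stalk e) = (g : WithBot ℕ∞) := le_antisymm hle hge
  exact ⟨hsm.2 heq, hdim.trans heq⟩

end Groth.DualPic
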